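/-
helper98: piece CARD of CALL S1378 (B&G Theorem 13.9): the order of a complement `E` of `M_σ`
is `|E₃| * |E₁|` for Hall `τ₃`- and `τ₁`-subgroups, when `τ₂(M) = ∅`.
-/
import Cfsg.Agent.Helper1.BG139Defs
import Cfsg.Agent.Helper23.BG1210c
import Cfsg.Prelude.Def_OddOrder

set_option autoImplicit false

namespace Cfsg.Agent.Helper98

open Cfsg Subgroup Cfsg.Agent.Helper1

universe u

variable {G : Type u} [Group G] [Finite G]

/-- PIECE `CARD`. -/
theorem bg139_card_E (hG : IsMinSimpleOddOrder G) {M E E₁ E₃ : Subgroup G} (hM : IsCoatom M)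
    (hE : IsComplIn E (sigmaCore M) M) (h2 : ∀ q : ℕ, q ∉ tau2 M)
    (hE₁ : IsPiHallOf (tau1 M) E₁ E) (hE₃ : IsPiHallOf (tau3 M) E₃ E) :
    Nat.card E = Nat.card E₃ * Nat.card E₁ ∧ (Nat.card E₃).Coprime (Nat.card E₁) := by
  have hcop : (Nat.card E₃).Coprime (Nat.card E₁) := by
    apply Nat.coprime_of_dvd
    intro p hp h3 h1
    have a := hE₃.2.1 p hp h3
    have b := hE₁.2.1 p hp h1
    exact b.2.2.2.1 a.2.2.1
  refine ⟨?_, hcop⟩
  have c1 : Nat.card E₁ * E₁.relIndex E = Nat.card E := by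
    have h := Subgroup.relIndex_mul_relIndex (⊥ : Subgroup G) E₁ E bot_le hE₁.1
    rw [Subgroup.relIndex_bot_left, Subgroup.relIndex_bot_left] at h
    exact h
  have c3 : Nat.card E₃ * E₃.relIndex E = Nat.card E := by
    have h := Subgroup.relIndex_mul_relIndex (⊥ : Subgroup G) E₃ E bot_le hE₃.1
    rw [Subgroup.relIndex_bot_left, Subgroup.relIndex_bot_left] at h
    exact h
  have hEpos : 0 < Nat.card E := Nat.card_pos
  have d1 : Nat.card E₁ ∣ Nat.card E := Dvd.intro _ c1
  have d3 : Nat.card E₃ ∣ Nat.card E := Dvd.intro _ c3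
  have d13 : Nat.card E₃ * Nat.card E₁ ∣ Nat.card E := hcop.mul_dvd_of_dvd_of_dvd d3 d1
  obtain ⟨m, hm⟩ := d13
  have hm1 : m = 1 := by
    by_contra hne
    obtain ⟨p, hp, hpm⟩ := Nat.exists_prime_and_dvd hne
    have hpE : p ∣ Nat.card E := by
      rw [hm]
      exact Dvd.dvd.mul_left hpm _
    rcases Cfsg.Agent.Helper23.bg1210_tau13 hG hM hE hp hpE (h2 p) with h | h
    · -- `p ∈ τ₁(M)`: `p` does not divide `|E : E₁| = |E₃| * m`
      apply hE₁.2.2 p hp h
      have e : E₁.relIndex E = Nat.card E₃ * m := by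
        have hpos : 0 < Nat.card E₁ := Nat.card_pos
        have : Nat.card E₁ * E₁.relIndex E = Nat.card E₁ * (Nat.card E₃ * m) := by
          rw [c1, hm]; ring
        exact Nat.eq_of_mul_eq_mul_left hpos this
      rw [e]
      exact Dvd.dvd.mul_left hpm _
    · apply hE₃.2.2 p hp h
      have e : E₃.relIndex E = Nat.card E₁ * m := by
        have hpos : 0 < Nat.card E₃ := Nat.card_pos
        have : Nat.card E₃ * E₃.relIndex E = Nat.card E₃ * (Nat.card E₁ * m) := by
          rw [c3, hm]; ring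
        exact Nat.eq_of_mul_eq_mul_left hpos this
      rw [e]
      exact Dvd.dvd.mul_left hpm _
  rw [hm, hm1, mul_one]

end Cfsg.Agent.Helper98
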