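import Cfsg.Agent.Helper22.BG14Defs
import Cfsg.Agent.Helper23.Uniq
import Cfsg.Agent.Helper23.Uniq4
import Cfsg.Agent.Helper23.Trans
import Cfsg.Agent.Helper21.PRank
import Cfsg.Agent.Helper41.BG13P1
import Cfsg.Agent.S1403
import Cfsg.Agent.Helper22.BG10e

/-!
helper98: piece HM of CALL S1352 (helper22): a maximal subgroup over `N_G(Q₁)` that is not
conjugate to `M` (`q ∉ σ(M)` of rank one in `M`, `|Q₁| = q`).
-/

set_option autoImplicit false
set_option linter.unusedVariables false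

namespace Cfsg.Agent.Helper98

open Cfsg Subgroup Cfsg.Agent.Helper23
open scoped Pointwise

universe u

variable {G : Type u} [Group G] [Finite G]

/-- PIECE HM: a maximal subgroup over `N_G(Q₁)`, not conjugate to `M` (`q ∉ σ(M)` of rank one). -/
theorem bg14_exists_coatom (hG : IsMinSimpleOddOrder G) {M Q₁ : Subgroup G} (hM : IsCoatom M)
    {q : ℕ} [Fact q.Prime] (hqσ : q ∉ sigma M) (hq1 : PRankLE q 1 ↥M) (hQ₁ : Nat.card Q₁ = q) :
    ∃ H : Subgroup G, IsCoatom H ∧ normalizer (Q₁ : Set G) ≤ H ∧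
      ∀ g : G, H ≠ M.map (MulAut.conj g).toMonoidHom := by
  have hU : Cfsg.Agent.Helper22.BGUniq G := fun K hK h1 h2 => Cfsg.Agent.S1403.result hG K hK h1 h2
  have hsimple := hG.2.1
  have hqp : q.Prime := Fact.out
  have hQ1 : Q₁ ≠ ⊥ := by
    intro h
    rw [h, Subgroup.card_bot] at hQ₁
    exact hqp.one_lt.ne hQ₁
  have hQtop : Q₁ ≠ ⊤ := by
    have hcyc : IsCyclic ↥Q₁ := isCyclic_of_prime_card hQ₁
    have hcomm : IsMulCommutative ↥Q₁ :=
      ⟨⟨fun a b => (IsCyclic.commGroup (α := ↥Q₁)).mul_comm a b⟩⟩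
    exact uq_abelian_ne_top hG hcomm
  obtain ⟨H, hH, hNH⟩ := uq_exists_coatom_ge (normalizer_ne_top_of_simple hQ1 hQtop)
  refine ⟨H, hH, hNH, ?_⟩
  intro g hHg
  subst hHg
  have hback : MulAut.conj g⁻¹ • (M.map (MulAut.conj g).toMonoidHom) = M := by
    ext x
    rw [Subgroup.mem_pointwise_smul_iff_inv_smul_mem]
    constructor
    · rintro ⟨y, hy, h⟩
      have h' : g * y * g⁻¹ = g * x * g⁻¹ := by
        simpa [MulAut.smul_def, MulAut.conj_apply] using h
      have hxy : y = x := by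
        have := congrArg (fun t => g⁻¹ * t * g) h'
        simpa [mul_assoc] using this
      exact hxy ▸ hy
    · intro hx
      refine ⟨x, hx, ?_⟩
      simp [MulAut.smul_def, MulAut.conj_apply]
  have hqσH : q ∉ sigma (M.map (MulAut.conj g).toMonoidHom) := by
    intro h
    have h2 := Cfsg.Agent.Helper41.bg13_sigma_conj h g⁻¹
    rw [hback] at h2
    exact hqσ h2
  have h4 := (Cfsg.Agent.Helper22.bg10_nonsigma_normalizer hG hU hH hqσH hQ₁ hNH).1.2
  apply h4
  exact Cfsg.Agent.Helper21.pRankLE_of_injective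
    (M.equivMapOfInjective (MulAut.conj g).toMonoidHom (MulAut.conj g).injective).symm.toMonoidHom
    (M.equivMapOfInjective (MulAut.conj g).toMonoidHom (MulAut.conj g).injective).symm.injective hq1

end Cfsg.Agent.Helper98
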