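import Cfsg.Agent.Helper22.BG14Defs
import Cfsg.Agent.Helper23.Uniq
import Cfsg.Agent.Helper31.BG139HALL
import Cfsg.Agent.Helper72.BG12Cor2
import Cfsg.Agent.Helper68.BG123
import Cfsg.Agent.S1403
import Cfsg.Agent.Helper22.BG12a

/-!
helper98: piece SET3 of CALL S1352 (helper22): for `q ∈ τ₃(M)` a `q`-subgroup of a complement
`E` of `M_σ` is cyclic, normal in `E` and inside `E'`.
-/

set_option autoImplicit false

namespace Cfsg.Agent.Helper98

open Cfsg Subgroup Cfsg.Agent.Helper23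

universe u

variable {G : Type u} [Group G] [Finite G]

/-- PIECE SET3 (12.1): for `q ∈ τ₃(M)` a `q`-subgroup of `E` is cyclic, normal in `E`, inside `E'`. -/
theorem bg14_normal_in_compl (hG : IsMinSimpleOddOrder G) {M E Q : Subgroup G} (hM : IsCoatom M)
    (hE : IsComplIn E (sigmaCore M) M) {q : ℕ} (hq3 : q ∈ tau3 M) (hQE : Q ≤ E)
    (hQq : IsPGroup q Q) :
    E ≤ normalizer (Q : Set G) ∧ Q ≤ ⁅E, E⁆ ∧ IsCyclic Q := by
  have hU : Cfsg.Agent.Helper22.BGUniq G := fun K hK h1 h2 => Cfsg.Agent.S1403.result hG K hK h1 h2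
  obtain ⟨E₃, hE₃⟩ := Cfsg.Agent.Helper31.bg139_exists_hall hG hM hE (tau3 M)
  obtain ⟨hcyc, hcomm, hnorm⟩ := (Cfsg.Agent.Helper22.bg12_E_structure hG hU hM hE).2.2 E₃ hE₃
  have hQE₃ : Q ≤ E₃ := by
    intro g hg
    obtain ⟨k, hk⟩ := hQq ⟨g, hg⟩
    have hgk : g ^ (q ^ k) = 1 := by
      have := congrArg Subtype.val hk
      simpa using this
    apply Cfsg.Agent.Helper68.bg123_mem_of_coprime hnorm (hQE hg) hgk
    apply Nat.Coprime.pow_left
    rw [Nat.Prime.coprime_iff_not_dvd hq3.1]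
    exact hE₃.2.2 q hq3.1 hq3
  refine ⟨?_, hQE₃.trans hcomm, ?_⟩
  · exact hnorm.trans (Cfsg.Agent.Helper72.b12c_normalizer_cyclic_le hcyc hQE₃)
  · exact Subgroup.isCyclic_of_le hQE₃

end Cfsg.Agent.Helper98
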