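import Cfsg.Agent.Helper22.BG14Defs
import Cfsg.Agent.Helper23.Uniq
import Cfsg.Agent.Helper23.Trans
import Cfsg.Agent.Helper72.BG12Cor2
import Cfsg.Agent.S1403
import Cfsg.Agent.Helper22.BG10a
import Cfsg.Agent.Helper22.BG10e

/-!
helper98: piece ZC of CALL S1352 (helper22): no non-identity element of the normal cyclic
`q`-subgroup `Q` of `E` centralizes `M_σ` (`q ∉ σ(M)` of rank one in `M`).
-/

set_option autoImplicit false
set_option linter.unusedVariables false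

namespace Cfsg.Agent.Helper98

open Cfsg Subgroup Cfsg.Agent.Helper23

universe u

variable {G : Type u} [Group G] [Finite G]

/-- PIECE ZC: no non-identity element of the normal cyclic `q`-subgroup `Q` of `E` centralizes
`M_σ` (`q ∉ σ(M)` of rank one). -/
theorem bg14_central_contra (hG : IsMinSimpleOddOrder G) {M E Q : Subgroup G} (hM : IsCoatom M)
    (hE : IsComplIn E (sigmaCore M) M) {q : ℕ} [Fact q.Prime] (hqσ : q ∉ sigma M)
    (hq1 : PRankLE q 1 ↥M) (hQE : Q ≤ E) (hQq : IsPGroup q Q) (hQc : IsCyclic Q)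
    (hEQ : E ≤ normalizer (Q : Set G)) {c : G} (hcQ : c ∈ Q) (hc1 : c ≠ 1)
    (hc : ∀ y ∈ sigmaCore M, c * y = y * c) : False := by
  have hU : Cfsg.Agent.Helper22.BGUniq G := fun K hK h1 h2 => Cfsg.Agent.S1403.result hG K hK h1 h2
  have hqp : q.Prime := Fact.out
  have hnσ : M ≤ normalizer (sigmaCore M : Set G) := le_normalizer_piCoreOf (sigma M) M
  obtain ⟨X, hXdef⟩ : ∃ X : Subgroup G, X = Q ⊓ centralizer (sigmaCore M : Set G) := ⟨_, rfl⟩
  have hcX : c ∈ X := by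
    rw [hXdef, Subgroup.mem_inf]
    refine ⟨hcQ, ?_⟩
    rw [Subgroup.mem_centralizer_iff]
    intro y hy
    exact (hc y hy).symm
  have hX1 : X ≠ ⊥ := by
    intro h
    rw [h, Subgroup.mem_bot] at hcX
    exact hc1 hcX
  have hXQ : X ≤ Q := by
    rw [hXdef]
    exact inf_le_left
  have hXM : X ≤ M := hXQ.trans (hQE.trans hE.1)
  have hXc : IsCyclic X := Subgroup.isCyclic_of_le hXQ
  have hMX : M ≤ normalizer (X : Set G) := by
    intro m hm
    obtain ⟨e, he, s, hs, rfl⟩ := hE.2.2.2 m hm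
    apply Cfsg.Agent.Helper22.bg10_mem_normalizer
    intro x hx
    have hxQ : x ∈ Q := hXQ hx
    have hxC : x ∈ centralizer (sigmaCore M : Set G) := by
      rw [hXdef, Subgroup.mem_inf] at hx
      exact hx.2
    rw [Subgroup.mem_centralizer_iff] at hxC
    have h1 : e * s * x * (e * s)⁻¹ = e * x * e⁻¹ := by
      have h2 : s * x = x * s := hxC s hs
      calc e * s * x * (e * s)⁻¹ = e * (s * x) * s⁻¹ * e⁻¹ := by group
        _ = e * (x * s) * s⁻¹ * e⁻¹ := by rw [h2]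
        _ = e * x * e⁻¹ := by group
    rw [h1, hXdef, Subgroup.mem_inf]
    refine ⟨((mem_normalizer_iff.mp (hEQ he)) x).mp hxQ, ?_⟩
    rw [Subgroup.mem_centralizer_iff]
    intro y hy
    have heM : e⁻¹ ∈ M := M.inv_mem (hE.1 he)
    have hy' : e⁻¹ * y * e⁻¹⁻¹ ∈ sigmaCore M :=
      ((mem_normalizer_iff.mp (hnσ heM)) y).mp hy
    have h3 : e⁻¹ * y * e⁻¹⁻¹ * x = x * (e⁻¹ * y * e⁻¹⁻¹) := hxC _ hy'
    calc y * (e * x * e⁻¹) = e * (e⁻¹ * y * e⁻¹⁻¹ * x) * e⁻¹ := by group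
      _ = e * (x * (e⁻¹ * y * e⁻¹⁻¹)) * e⁻¹ := by rw [h3]
      _ = e * x * e⁻¹ * y := by group
  have hNX : normalizer (X : Set G) = M := uq_normalizer_eq hG hM hX1 hXM hMX
  -- a subgroup of order `q` of `X`
  have hXq : IsPGroup q X := hQq.to_le hXQ
  have hqX : q ∣ Nat.card X := by
    obtain ⟨k, hk⟩ := hXq.exists_card_eq
    have hk0 : k ≠ 0 := by
      rintro rfl
      rw [pow_zero] at hk
      exact hX1 (Subgroup.card_eq_one.mp hk)
    rw [hk]
    exact dvd_pow_self q hk0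
  obtain ⟨x, hx⟩ := exists_prime_orderOf_dvd_card' q hqX
  obtain ⟨X₁, hX₁def⟩ : ∃ X₁ : Subgroup G, X₁ = Subgroup.zpowers (x : G) := ⟨_, rfl⟩
  have hX₁card : Nat.card X₁ = q := by
    rw [hX₁def, Nat.card_zpowers, Subgroup.orderOf_coe, hx]
  have hX₁X : X₁ ≤ X := by
    rw [hX₁def, Subgroup.zpowers_le]
    exact x.2
  have hX₁1 : X₁ ≠ ⊥ := by
    intro h
    rw [h, Subgroup.card_bot] at hX₁card
    exact hqp.one_lt.ne hX₁card
  have hMX₁ : M ≤ normalizer (X₁ : Set G) :=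
    hMX.trans (Cfsg.Agent.Helper72.b12c_normalizer_cyclic_le hXc hX₁X)
  have hNX₁ : normalizer (X₁ : Set G) = M :=
    uq_normalizer_eq hG hM hX₁1 (hX₁X.trans hXM) hMX₁
  exact (Cfsg.Agent.Helper22.bg10_nonsigma_normalizer hG hU hM hqσ hX₁card hNX₁.le).1.2 hq1

end Cfsg.Agent.Helper98
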