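import Mathlib
import Cfsg.Prelude.Def_GeometricClasses
import Cfsg.Prelude.Def_Classical
import Cfsg.Agent.Helper98.ELPDefs

set_option autoImplicit false

/-!
# Definitions for sub-CALL S90T2 (helper98): stages T2G / T2B (`r = p = 2`) of row S5990

`qm n F a b`: the minus-type form on `(n ⊕ n) ⊕ Fin 2 → F` (`qm (Fin d) F a b =
Cfsg.quadFormMinus d F a b` by `rfl`); `embM g = fromBlocks g 0 0 1`, `emb : GL (n ⊕ n) F →*
GL ((n ⊕ n) ⊕ Fin 2) F` the block embedding `O⁺ → O⁻`; `subUm n F`: the totally singular subspace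
`{v | v (inl (inr j)) = 0 ∧ v (inr k) = 0}`.
-/

namespace Cfsg.Agent.Helper98.S90T2

open Matrix Cfsg.Agent.Helper98.ELP
open scoped MatrixGroups

variable {n : Type} [Fintype n] [DecidableEq n] {F : Type*} [Field F]

/-- The minus-type form on `(n ⊕ n) ⊕ Fin 2 → F`. -/
def qm (n : Type) [Fintype n] (F : Type*) [Field F] (a b : F) (v : (n ⊕ n) ⊕ Fin 2 → F) : F :=
  (∑ i : n, v (.inl (.inl i)) * v (.inl (.inr i)))
    + (v (.inr 0) ^ 2 + a * v (.inr 0) * v (.inr 1) + b * v (.inr 1) ^ 2)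

theorem qm_fin (d : ℕ) (a b : F) : qm (Fin d) F a b = Cfsg.quadFormMinus d F a b := rfl

/-- The block matrix `[[g, 0], [0, 1]]`. -/
def embM (g : Matrix (n ⊕ n) (n ⊕ n) F) :
    Matrix ((n ⊕ n) ⊕ Fin 2) ((n ⊕ n) ⊕ Fin 2) F := Matrix.fromBlocks g 0 0 1

theorem embM_mul (g h : Matrix (n ⊕ n) (n ⊕ n) F) : embM g * embM h = embM (g * h) := by
  simp [embM, Matrix.fromBlocks_multiply]

theorem embM_one : embM (1 : Matrix (n ⊕ n) (n ⊕ n) F) = 1 := by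
  simp [embM, Matrix.fromBlocks_one]

/-- The block embedding `GL (n ⊕ n) F →* GL ((n ⊕ n) ⊕ Fin 2) F`. -/
def emb : GL (n ⊕ n) F →* GL ((n ⊕ n) ⊕ Fin 2) F where
  toFun g := ⟨embM (g : Matrix (n ⊕ n) (n ⊕ n) F), embM ((g⁻¹ : GL (n ⊕ n) F) : Matrix (n ⊕ n) (n ⊕ n) F),
    by rw [embM_mul, ← Units.val_mul, mul_inv_cancel, Units.val_one, embM_one],
    by rw [embM_mul, ← Units.val_mul, inv_mul_cancel, Units.val_one, embM_one]⟩
  map_one' := Units.ext embM_one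
  map_mul' g h := Units.ext (by
    show embM ((g * h : GL (n ⊕ n) F) : Matrix (n ⊕ n) (n ⊕ n) F) = embM g * embM h
    rw [embM_mul, Units.val_mul])

theorem emb_coe (g : GL (n ⊕ n) F) :
    ((emb g : GL ((n ⊕ n) ⊕ Fin 2) F) : Matrix ((n ⊕ n) ⊕ Fin 2) ((n ⊕ n) ⊕ Fin 2) F) =
      embM (g : Matrix (n ⊕ n) (n ⊕ n) F) := rfl

/-- The totally singular subspace `{v | v (inl (inr j)) = 0 ∧ v (inr k) = 0}`. -/
def subUm (n : Type) (F : Type*) [Field F] : Submodule F ((n ⊕ n) ⊕ Fin 2 → F) where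
  carrier := {v | (∀ j : n, v (.inl (.inr j)) = 0) ∧ ∀ k : Fin 2, v (.inr k) = 0}
  add_mem' := by
    intro a b ha hb
    exact ⟨fun j => by simp [ha.1 j, hb.1 j], fun k => by simp [ha.2 k, hb.2 k]⟩
  zero_mem' := ⟨fun _ => rfl, fun _ => rfl⟩
  smul_mem' := by
    intro c a ha
    exact ⟨fun j => by simp [ha.1 j], fun k => by simp [ha.2 k]⟩

theorem mem_subUm (v : (n ⊕ n) ⊕ Fin 2 → F) :
    v ∈ subUm n F ↔ (∀ j : n, v (.inl (.inr j)) = 0) ∧ ∀ k : Fin 2, v (.inr k) = 0 := Iff.rfl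

end Cfsg.Agent.Helper98.S90T2
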