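import Mathlib
import Cfsg.Prelude.Def_GeometricClasses
import Cfsg.Agent.Helper98.SU2
import Cfsg.Agent.Helper98.FieldSub

/-!
Maximality in `Sp_{2m}(q)`, `q` odd, of the normaliser of a quadratic field subalgebra `K` of the
matrix algebra that is closed under adjoints but not self-adjoint (the unitary groups `GU_m(q)`,
Aschbacher class `C₃`).
-/

set_option autoImplicit false
set_option linter.unusedSectionVars false
set_option linter.unusedVariables false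
set_option linter.unusedSimpArgs false

universe u

namespace Cfsg.Agent.Helper98

open Matrix Cfsg Cfsg.Geo Cfsg.Agent.Helper45 Cfsg.Agent.Helper94

section SU3

variable {F : Type u} [Field F] [Fintype F] {m : ℕ}

variable {ω : (Fin m ⊕ Fin m → F) →ₗ[F] (Fin m ⊕ Fin m → F)} {ν : F}

theorem su_two_ne (hodd : Odd (Fintype.card F)) : (2 : F) ≠ 0 := by
  intro h
  have : CharP F 2 := CharTwo.of_one_ne_zero_of_two_eq_zero one_ne_zero h
  have h3 := FiniteField.even_card_of_char_two (ringChar.eq F 2)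
  rcases hodd with ⟨k, hk⟩
  omega

/-- The conjugate of a linear map by an element of `GL`. -/
def suConj (ω : (Fin m ⊕ Fin m → F) →ₗ[F] (Fin m ⊕ Fin m → F)) (y : GL (Fin m ⊕ Fin m) F) : (Fin m ⊕ Fin m → F) →ₗ[F] (Fin m ⊕ Fin m → F) :=
  (Matrix.toLin' (y : Matrix (Fin m ⊕ Fin m) (Fin m ⊕ Fin m) F)) ∘ₗ ω ∘ₗ (Matrix.toLin' ((y⁻¹ : GL (Fin m ⊕ Fin m) F) : Matrix (Fin m ⊕ Fin m) (Fin m ⊕ Fin m) F))

theorem suConj_apply (ω : (Fin m ⊕ Fin m → F) →ₗ[F] (Fin m ⊕ Fin m → F)) (y : GL (Fin m ⊕ Fin m) F) (x : (Fin m ⊕ Fin m → F)) :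
    suConj ω y x = (y : Matrix (Fin m ⊕ Fin m) (Fin m ⊕ Fin m) F) *ᵥ (ω (((y⁻¹ : GL (Fin m ⊕ Fin m) F) : Matrix (Fin m ⊕ Fin m) (Fin m ⊕ Fin m) F) *ᵥ x)) := rfl

theorem su_conj_data (hd : SuData ω ν) {y : GL (Fin m ⊕ Fin m) F} (hy : y ∈ spGL m F) :
    SuData (suConj ω y) ν := by
  refine ⟨?_, hd.irr, ?_⟩
  · intro x
    rw [suConj_apply, suConj_apply, gl_inv_mulVec, hd.sq, mulVec_neg, mulVec_smul, gl_mulVec_inv]
  · intro x z
    rw [suConj_apply, suConj_apply, sp_apply_left hy, hd.adj]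
    have h3 := sp_apply hy (((y⁻¹ : GL (Fin m ⊕ Fin m) F) : Matrix (Fin m ⊕ Fin m) (Fin m ⊕ Fin m) F) *ᵥ x) (ω (((y⁻¹ : GL (Fin m ⊕ Fin m) F) : Matrix (Fin m ⊕ Fin m) (Fin m ⊕ Fin m) F) *ᵥ z))
    rw [gl_mulVec_inv] at h3
    rw [h3]

/-- **Maximality of the unitary `C₃` subgroups of `Sp_{2m}(q)`, `q` odd.** -/
theorem su_unitary_max (m : ℕ) (hm : 7 ≤ m) (hodd : Odd (Fintype.card F))
    (K : Subalgebra F (Matrix (Fin m ⊕ Fin m) (Fin m ⊕ Fin m) F)) (hK : IsFieldSubalgebra 2 K)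
    (hac : IsAdjointClosedFor (sympForm m F) K) (hnsa : ¬IsSelfAdjointFor (sympForm m F) K) :
    IsMaximalIn (spGL m F) (subalgebraNormalizer K ⊓ spGL m F) := by
  have h2 := su_two_ne hodd
  have hne : Nonempty (Fin m ⊕ Fin m) := ⟨Sum.inl ⟨0, by omega⟩⟩
  obtain ⟨ω₀, hω₀K, hω₀, hKspan₀⟩ := oc_K_basis K hK.finrank_eq
  obtain ⟨ω₀', hω₀'K, hadj₀⟩ := hac ω₀ hω₀K
  have hadj₀' : ∀ u v, sympForm m F (ω₀' *ᵥ u) v = sympForm m F u (ω₀ *ᵥ v) := by
    intro u v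
    rw [sf_swap (ω₀' *ᵥ u) v, ← hadj₀, sf_swap (ω₀ *ᵥ v) u, neg_neg]
  obtain ⟨ω₁, hω₁def⟩ : ∃ ω₁ : Matrix (Fin m ⊕ Fin m) (Fin m ⊕ Fin m) F, ω₁ = ω₀ - ω₀' := ⟨_, rfl⟩
  have hω₁K : ω₁ ∈ K := by
    rw [hω₁def]
    exact K.sub_mem hω₀K hω₀'K
  have hskew : ∀ u v, sympForm m F (ω₁ *ᵥ u) v = -sympForm m F u (ω₁ *ᵥ v) := by
    intro u v
    rw [hω₁def, Matrix.sub_mulVec, Matrix.sub_mulVec, sf_sub_left, sf_sub_right, hadj₀, hadj₀']
    ring
  obtain ⟨u₀, v₀, huv₀⟩ : ∃ u₀ v₀ : (Fin m ⊕ Fin m → F), sympForm m F u₀ v₀ ≠ 0 := by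
    have h3 : (Pi.single (Sum.inl ⟨0, by omega⟩) 1 : (Fin m ⊕ Fin m → F)) ≠ 0 := by
      intro h
      have h4 := congrFun h (Sum.inl ⟨0, by omega⟩)
      simp at h4
    obtain ⟨y, hy⟩ := sf_exists_ne _ h3
    exact ⟨_, y, hy⟩
  have hu₀ : u₀ ≠ 0 := by
    rintro rfl
    apply huv₀
    have h3 := sf_smul_left (0 : F) (0 : (Fin m ⊕ Fin m → F)) v₀
    rw [zero_smul, zero_mul] at h3
    exact h3
  have hω₁ : ∀ a : F, ω₁ ≠ a • (1 : Matrix (Fin m ⊕ Fin m) (Fin m ⊕ Fin m) F) := by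
    intro a e
    have h3 : a = 0 := by
      have h4 := hskew u₀ v₀
      rw [e, Matrix.smul_mulVec, Matrix.smul_mulVec, Matrix.one_mulVec, Matrix.one_mulVec,
        sf_smul_left, sf_smul_right] at h4
      have h5 : 2 * (a * sympForm m F u₀ v₀) = 0 := by linear_combination h4
      rcases mul_eq_zero.mp (su_two h2 h5) with h6 | h6
      · exact h6
      · exact absurd h6 huv₀
    rw [h3, zero_smul] at e
    apply hnsa
    intro k hk u v
    obtain ⟨c, d, rfl⟩ := hKspan₀ k hk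
    have h7 : ω₀' = ω₀ := by
      rw [hω₁def] at e
      exact (sub_eq_zero.mp e).symm
    rw [h7] at hadj₀
    rw [Matrix.add_mulVec, Matrix.add_mulVec, Matrix.smul_mulVec, Matrix.smul_mulVec,
      Matrix.smul_mulVec, Matrix.smul_mulVec, Matrix.one_mulVec, Matrix.one_mulVec]
    simp only [sf_add_left, sf_add_right, sf_smul_left, sf_smul_right, sf_sub_left, sf_sub_right, sf_neg_left, sf_neg_right, map_add, map_sub, map_smul, map_neg, smul_eq_mul]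
    rw [hadj₀]
  have hKspan := oc_K_span K hK.finrank_eq ω₁ hω₁K hω₁
  obtain ⟨a, b, hab⟩ := hKspan (ω₁ * ω₁) (K.mul_mem hω₁K hω₁K)
  have hb : b = 0 := by
    by_contra hb
    have h3 : ∀ u v, sympForm m F (ω₁ *ᵥ u) v = 0 := by
      intro u v
      have h4 : sympForm m F ((ω₁ * ω₁) *ᵥ u) v = sympForm m F u ((ω₁ * ω₁) *ᵥ v) := by
        rw [← Matrix.mulVec_mulVec, ← Matrix.mulVec_mulVec, hskew (ω₁ *ᵥ u) v,
          hskew u (ω₁ *ᵥ v), neg_neg]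
      rw [hab, Matrix.add_mulVec, Matrix.add_mulVec, Matrix.smul_mulVec, Matrix.smul_mulVec,
        Matrix.smul_mulVec, Matrix.smul_mulVec, Matrix.one_mulVec, Matrix.one_mulVec] at h4
      simp only [sf_add_left, sf_add_right, sf_smul_left, sf_smul_right, sf_sub_left, sf_sub_right, sf_neg_left, sf_neg_right, map_add, map_sub, map_smul, map_neg, smul_eq_mul] at h4
      have h5 : 2 * (b * sympForm m F (ω₁ *ᵥ u) v) = 0 := by linear_combination h4 + b * hskew u v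
      exact (mul_eq_zero.mp (su_two h2 h5)).resolve_left hb
    apply hω₁ 0
    apply matrix_ext_mulVec
    intro x
    rw [zero_smul, Matrix.zero_mulVec]
    exact Helper13.sympForm_sep _ (h3 x)
  obtain ⟨ν, hν⟩ : ∃ ν : F, ν = -a := ⟨_, rfl⟩
  have hsq : ∀ x, ω₁ *ᵥ (ω₁ *ᵥ x) = -(ν • x) := by
    intro x
    rw [Matrix.mulVec_mulVec, hab, hb, zero_smul, add_zero, Matrix.smul_mulVec,
      Matrix.one_mulVec, hν, neg_smul, neg_neg]
  have hd : SuData (Matrix.toLin' ω₁) ν := by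
    refine ⟨?_, ?_, ?_⟩
    · intro x
      rw [Matrix.toLin'_apply, Matrix.toLin'_apply]
      exact hsq x
    · intro α β hN
      have hxK : α • (1 : Matrix (Fin m ⊕ Fin m) (Fin m ⊕ Fin m) F) + β • ω₁ ∈ K :=
        K.add_mem (K.smul_mem K.one_mem α) (K.smul_mem hω₁K β)
      have hyK : α • (1 : Matrix (Fin m ⊕ Fin m) (Fin m ⊕ Fin m) F) + (-β) • ω₁ ∈ K :=
        K.add_mem (K.smul_mem K.one_mem α) (K.smul_mem hω₁K _)
      have hxy : (α • (1 : Matrix (Fin m ⊕ Fin m) (Fin m ⊕ Fin m) F) + β • ω₁) *ᵥ ((α • (1 : Matrix (Fin m ⊕ Fin m) (Fin m ⊕ Fin m) F) + (-β) • ω₁) *ᵥ u₀) = 0 := by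
        have e : ∀ (p q : F) (w : (Fin m ⊕ Fin m → F)), (p • (1 : Matrix (Fin m ⊕ Fin m) (Fin m ⊕ Fin m) F) + q • ω₁) *ᵥ w = p • w + q • (ω₁ *ᵥ w) := by
          intro p q w
          rw [Matrix.add_mulVec, Matrix.smul_mulVec, Matrix.smul_mulVec, Matrix.one_mulVec]
        rw [e, e, Matrix.mulVec_add, Matrix.mulVec_smul, Matrix.mulVec_smul, hsq]
        rw [← zero_smul F u₀, ← hN]
        module
      by_cases hx : α • (1 : Matrix (Fin m ⊕ Fin m) (Fin m ⊕ Fin m) F) + β • ω₁ = 0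
      · exact oc_lin_indep ω₁ hω₁ α β hx
      · have h1 := IsFS.mulVec_eq_zero (IsFS.of hK) hxK hx hxy
        by_cases hy : α • (1 : Matrix (Fin m ⊕ Fin m) (Fin m ⊕ Fin m) F) + (-β) • ω₁ = 0
        · have h3 := oc_lin_indep ω₁ hω₁ _ _ hy
          exact ⟨h3.1, neg_eq_zero.mp h3.2⟩
        · exact absurd (IsFS.mulVec_eq_zero (IsFS.of hK) hyK hy h1) hu₀
    · intro x y
      rw [Matrix.toLin'_apply, Matrix.toLin'_apply]
      exact hskew x y
  have hnorm1 : ∀ g : GL (Fin m ⊕ Fin m) F, g ∈ subalgebraNormalizer K → ∃ a b : F, ∀ x : (Fin m ⊕ Fin m → F),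
      (g : Matrix (Fin m ⊕ Fin m) (Fin m ⊕ Fin m) F) *ᵥ (Matrix.toLin' ω₁ x) =
        a • ((g : Matrix (Fin m ⊕ Fin m) (Fin m ⊕ Fin m) F) *ᵥ x) + b • Matrix.toLin' ω₁ ((g : Matrix (Fin m ⊕ Fin m) (Fin m ⊕ Fin m) F) *ᵥ x) := by
    intro g hg
    obtain ⟨a, b, h⟩ := oc_of_norm K ω₁ hω₁K hKspan g hg
    exact ⟨a, b, fun x => by
      rw [Matrix.toLin'_apply, Matrix.toLin'_apply]
      exact h x⟩
  have hnorm2 : ∀ g : GL (Fin m ⊕ Fin m) F, (∃ a b : F, ∀ x : (Fin m ⊕ Fin m → F),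
      (g : Matrix (Fin m ⊕ Fin m) (Fin m ⊕ Fin m) F) *ᵥ (Matrix.toLin' ω₁ x) =
        a • ((g : Matrix (Fin m ⊕ Fin m) (Fin m ⊕ Fin m) F) *ᵥ x) + b • Matrix.toLin' ω₁ ((g : Matrix (Fin m ⊕ Fin m) (Fin m ⊕ Fin m) F) *ᵥ x)) →
      g ∈ subalgebraNormalizer K := by
    rintro g ⟨a, b, h⟩
    exact oc_norm_of K ω₁ hω₁K hKspan g ⟨a, b, fun x => by
      have h3 := h x
      rw [Matrix.toLin'_apply, Matrix.toLin'_apply] at h3
      exact h3⟩
  obtain ⟨ω, hωdef⟩ : ∃ ω : (Fin m ⊕ Fin m → F) →ₗ[F] (Fin m ⊕ Fin m → F), ω = Matrix.toLin' ω₁ := ⟨_, rfl⟩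
  rw [← hωdef] at hd hnorm1 hnorm2
  have hO := su_ocdata hd
  have hQn := su_nondeg hd h2
  constructor
  · rw [SetLike.lt_iff_le_and_exists]
    refine ⟨inf_le_right, ?_⟩
    have h0 : Module.finrank F ↥(⊤ : Submodule F (Fin m ⊕ Fin m → F)) = Fintype.card (Fin m ⊕ Fin m) := by
      rw [finrank_top, Module.finrank_fintype_fun_eq_card]
    have hcard : Fintype.card (Fin m ⊕ Fin m) = m + m := by
      rw [Fintype.card_sum, Fintype.card_fin]
    obtain ⟨v, -, hv0, hvQ⟩ := exists_sing_in (suQ ω) ⊤ (by omega)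
    rw [suQ_apply] at hvQ
    refine ⟨stGL v 1, stGL_mem v 1, fun hmem => ?_⟩
    obtain ⟨a', b', hab'⟩ := hnorm1 _ hmem.1
    have hvv : sympForm m F (ω v) v = 0 := by rw [sf_swap, hvQ, neg_zero]
    have h3 := hab' v
    simp only [stGL_mulVec, hvv, sf_self, mul_zero, zero_smul, add_zero] at h3
    obtain ⟨ha', hb'⟩ := oc_indep (suQ ω) hO v hv0 a' (b' - 1) (by
      rw [sub_smul, one_smul, ← add_sub_assoc]
      exact sub_eq_zero.mpr h3.symm)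
    have hb'1 : b' = 1 := sub_eq_zero.mp hb'
    obtain ⟨y, hy⟩ := sf_exists_ne v hv0
    have h4 := hab' y
    simp only [stGL_mulVec] at h4
    rw [ha', hb'1, zero_smul, zero_add, one_smul, map_add, map_smul] at h4
    have h5 := add_left_cancel h4
    have h6 := (oc_indep (suQ ω) hO v hv0 (1 * sympForm m F (ω y) v) (-(1 * sympForm m F y v)) (by
      rw [h5]
      module)).2
    apply hy
    have h7 : sympForm m F y v = 0 := by linear_combination -h6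
    rw [sf_swap, h7, neg_zero]
  · intro M hHM hMG
    by_cases hMH : M = subalgebraNormalizer K ⊓ spGL m F
    · exact Or.inl hMH
    right
    apply le_antisymm hMG
    have hM1 : ∀ g ∈ spGL m F,
        (∀ x, ((g : GL (Fin m ⊕ Fin m) F) : Matrix (Fin m ⊕ Fin m) (Fin m ⊕ Fin m) F) *ᵥ (ω x) = ω (((g : GL (Fin m ⊕ Fin m) F) : Matrix (Fin m ⊕ Fin m) (Fin m ⊕ Fin m) F) *ᵥ x)) → g ∈ M := by
      intro g hg hcomm
      apply hHM
      refine ⟨hnorm2 _ ⟨0, 1, fun x => ?_⟩, hg⟩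
      rw [zero_smul, zero_add, one_smul]
      exact hcomm x
    obtain ⟨y, hyM, hyH⟩ := SetLike.exists_of_lt (lt_of_le_of_ne hHM (Ne.symm hMH))
    have hySp : y ∈ spGL m F := hMG hyM
    have hd' := su_conj_data hd hySp
    have hM2 : ∀ g ∈ spGL m F,
        (∀ x, ((g : GL (Fin m ⊕ Fin m) F) : Matrix (Fin m ⊕ Fin m) (Fin m ⊕ Fin m) F) *ᵥ (suConj ω y x) = suConj ω y (((g : GL (Fin m ⊕ Fin m) F) : Matrix (Fin m ⊕ Fin m) (Fin m ⊕ Fin m) F) *ᵥ x)) →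
        g ∈ M := by
      intro g hg hcomm
      have hconj : y⁻¹ * g * y ∈ spGL m F :=
        (spGL m F).mul_mem ((spGL m F).mul_mem ((spGL m F).inv_mem hySp) hg) hySp
      have h1 : y⁻¹ * g * y ∈ M := hM1 _ hconj (fun x => by
        rw [gl_mul_mulVec, gl_mul_mulVec, gl_mul_mulVec, gl_mul_mulVec]
        have h2' := hcomm ((y : Matrix (Fin m ⊕ Fin m) (Fin m ⊕ Fin m) F) *ᵥ x)
        rw [suConj_apply, suConj_apply, gl_inv_mulVec] at h2'
        rw [h2', gl_inv_mulVec])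
      have e : g = y * (y⁻¹ * g * y) * y⁻¹ := by group
      rw [e]
      exact M.mul_mem (M.mul_mem hyM h1) (M.inv_mem hyM)
    refine su_main hd hd' h2 hm M hM1 hM2 ?_
    rintro ⟨a, b, hab⟩
    apply hyH
    refine ⟨hnorm2 _ ⟨a, b, fun x => ?_⟩, hySp⟩
    have h3 := hab ((y : Matrix (Fin m ⊕ Fin m) (Fin m ⊕ Fin m) F) *ᵥ x)
    rw [suConj_apply, gl_inv_mulVec] at h3
    exact h3

end SU3

end Cfsg.Agent.Helper98
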