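import Mathlib

set_option autoImplicit false

namespace Cfsg.Agent.Helper98

/-- The image of a maximal subgroup under an injective homomorphism is maximal in the range. -/
theorem isCoatom_map_subgroupOf_range {G' G : Type*} [Group G'] [Group G] (ψ : G' →* G)
    (hψ : Function.Injective ψ) (S' : Subgroup G') (hS : IsCoatom S') :
    IsCoatom ((S'.map ψ).subgroupOf ψ.range) := by
  have h1 : IsCoatom (MulEquiv.mapSubgroup (MonoidHom.ofInjective hψ) S') :=
    (OrderIso.isCoatom_iff _ _).mpr hS
  have h2 : MulEquiv.mapSubgroup (MonoidHom.ofInjective hψ) S' = (S'.map ψ).subgroupOf ψ.range := by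
    ext x
    rw [Subgroup.mem_subgroupOf]
    constructor
    · rintro ⟨s, hs, rfl⟩
      exact ⟨s, hs, rfl⟩
    · rintro ⟨s, hs, hsx⟩
      exact ⟨s, hs, Subtype.ext hsx⟩
  rwa [h2] at h1

/-- `H` is maximal in `K` in the lattice-interval sense iff `H.subgroupOf K` is a coatom. -/
theorem isCoatom_subgroupOf_iff {G : Type*} [Group G] {H K : Subgroup G} (hHK : H ≤ K) :
    IsCoatom (H.subgroupOf K) ↔ H ≠ K ∧ ∀ L : Subgroup G, H ≤ L → L ≤ K → L = H ∨ L = K := by
  constructor
  · intro h
    refine ⟨fun hHK' => h.1 (by rw [hHK']; exact Subgroup.subgroupOf_self K), fun L hHL hLK => ?_⟩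
    by_cases hL : L = H
    · exact Or.inl hL
    · right
      have hlt : H.subgroupOf K < L.subgroupOf K := by
        refine lt_of_le_of_ne (fun x hx => hHL hx) ?_
        intro heq
        apply hL
        apply le_antisymm _ hHL
        intro x hx
        have : (⟨x, hLK hx⟩ : K) ∈ L.subgroupOf K := hx
        rw [← heq] at this
        exact this
      have := h.2 _ hlt
      rw [Subgroup.subgroupOf_eq_top] at this
      exact le_antisymm hLK this
  · rintro ⟨hne, hmax⟩
    refine ⟨fun h => hne (le_antisymm hHK (Subgroup.subgroupOf_eq_top.mp h)), fun L' hL' => ?_⟩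
    have h1 : H ≤ L'.map K.subtype := by
      intro x hx
      exact ⟨⟨x, hHK hx⟩, hL'.le hx, rfl⟩
    rcases hmax (L'.map K.subtype) h1 (Subgroup.map_subtype_le L') with h | h
    · exfalso
      apply hL'.ne
      ext x
      constructor
      · intro hx
        exact hL'.le hx
      · intro hx
        have : (x : G) ∈ L'.map K.subtype := ⟨x, hx, rfl⟩
        rw [h] at this
        exact this
    · rw [eq_top_iff]
      intro x _
      have : (x : G) ∈ L'.map K.subtype := by rw [h]; exact x.2
      obtain ⟨y, hy, hyx⟩ := this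
      have : y = x := Subtype.ext hyx
      rwa [← this]

end Cfsg.Agent.Helper98
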