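import Mathlib

set_option autoImplicit false

/-! CALL LM (helper21, row S4067), piece COUNT (double by helper98): one automorphism moving every
element outside an index-`p` subgroup `M ≥ Z(G)` to a non-conjugate element gives at most `|G|/p`
automorphism orbits. Weighted orbit count with weights `2p` (central), `2` (in `M`), `1`. -/

namespace Cfsg.Agent.Helper98.LM

/-- The class of a non-central element has at least `minFac |G|` elements. -/
theorem lmc_class_card_ge {G : Type*} [Group G] [Finite G] (g : G)
    (hg : g ∉ Subgroup.center G) (C : Finset G) (hC : ∀ h : G, h ∈ C ↔ ∃ x : G, x * g * x⁻¹ = h) :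
    (Nat.card G).minFac ≤ C.card := by
  classical
  have h1 : C.card = (MulAction.orbit (ConjAct G) g).ncard := by
    rw [← Set.ncard_coe_finset]
    congr 1
    ext h
    rw [Finset.mem_coe, hC, MulAction.mem_orbit_iff]
    constructor
    · rintro ⟨x, rfl⟩
      exact ⟨ConjAct.toConjAct x, ConjAct.toConjAct_smul x g⟩
    · rintro ⟨x, rfl⟩
      exact ⟨ConjAct.ofConjAct x, by rw [ConjAct.smul_def]⟩
  haveI : Finite (ConjAct G) := inferInstanceAs (Finite G)
  rw [h1, ← MulAction.index_stabilizer]
  apply Nat.minFac_le_of_dvd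
  · have hne0 : (MulAction.stabilizer (ConjAct G) g).index ≠ 0 := Subgroup.index_ne_zero_of_finite
    have hne1 : (MulAction.stabilizer (ConjAct G) g).index ≠ 1 := by
      intro h
      rw [Subgroup.index_eq_one] at h
      apply hg
      rw [Subgroup.mem_center_iff]
      intro x
      have hx : ConjAct.toConjAct x ∈ MulAction.stabilizer (ConjAct G) g := by rw [h]; trivial
      rw [MulAction.mem_stabilizer_iff, ConjAct.toConjAct_smul] at hx
      calc x * g = x * g * x⁻¹ * x := by group
        _ = g * x := by rw [hx]
    omega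
  · exact Subgroup.index_dvd_card (MulAction.stabilizer (ConjAct G) g)

/-- The final arithmetic. -/
theorem lmc_arith (K n p m z : ℕ) (hp : 1 ≤ p) (h1 : K * (2 * p) ≤ n + m + z * (2 * p - 2))
    (h2 : m * p = n) (h3 : 2 * p * z ≤ n) : K * p ≤ n := by
  obtain ⟨p', rfl⟩ : ∃ p', p = p' + 1 := ⟨p - 1, by omega⟩
  have e : 2 * (p' + 1) - 2 = 2 * p' := by omega
  rw [e] at h1
  subst h2
  have h4 : 2 * z ≤ m := by
    have h5 : (2 * z) * (p' + 1) ≤ m * (p' + 1) := by nlinarith
    exact Nat.le_of_mul_le_mul_right h5 (by omega)
  have h6 := Nat.mul_le_mul_right p' h4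
  nlinarith

/-- COUNT: one automorphism moving every element outside an index-`p` subgroup `M ≥ Z(G)` to a
non-conjugate element gives at most `|G|/p` orbits. -/
theorem lm_count {G : Type*} [Group G] [Finite G] (hna : ¬ IsMulCommutative G)
    (σ : MulAut G) (M : Subgroup G) (hM : M.index = (Nat.card G).minFac)
    (hZM : Subgroup.center G ≤ M) (hσ : ∀ g : G, g ∉ M → ¬ IsConj g (σ g)) :
    Nat.card (MulAction.orbitRel.Quotient (MulAut G) G) ≤ Nat.card G / (Nat.card G).minFac := by
  classical
  have : Fintype G := Fintype.ofFinite G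
  have hn1 : Nat.card G ≠ 1 := by
    intro h
    apply hna
    haveI : Subsingleton G := (Nat.card_eq_one_iff_unique.mp h).1
    exact ⟨⟨fun a b => Subsingleton.elim _ _⟩⟩
  have hpp : (Nat.card G).minFac.Prime := Nat.minFac_prime hn1
  have hMc : Nat.card M * (Nat.card G).minFac = Nat.card G := by
    rw [← hM, mul_comm]; exact M.index_mul_card
  have hz : 2 * (Nat.card G).minFac * Nat.card (Subgroup.center G) ≤ Nat.card G := by
    have hmz : (Subgroup.center G).index * Nat.card (Subgroup.center G) = Nat.card G :=
      (Subgroup.center G).index_mul_card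
    have hm0 : (Subgroup.center G).index ≠ 0 := Subgroup.index_ne_zero_of_finite
    have hm1 : (Subgroup.center G).index ≠ 1 := by
      intro h
      rw [Subgroup.index_eq_one] at h
      apply hna
      refine ⟨⟨fun a b => ?_⟩⟩
      have ha : a ∈ Subgroup.center G := by rw [h]; trivial
      exact (Subgroup.mem_center_iff.mp ha b).symm
    have hmnp : ¬ (Subgroup.center G).index.Prime := by
      intro hmp
      apply hna
      haveI : Fact (Subgroup.center G).index.Prime := ⟨hmp⟩
      have hc : Nat.card (G ⧸ Subgroup.center G) = (Subgroup.center G).index := rfl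
      haveI : IsCyclic (G ⧸ Subgroup.center G) := isCyclic_of_prime_card hc
      exact (QuotientGroup.mk' (Subgroup.center G)).isMulCommutative_of_isCyclic_of_ker_le_center
        (by simp)
    have hmn : (Subgroup.center G).index ∣ Nat.card G := ⟨_, hmz.symm⟩
    obtain ⟨k, hk⟩ := Nat.minFac_dvd (Subgroup.center G).index
    have hq : (Nat.card G).minFac ≤ (Subgroup.center G).index.minFac :=
      Nat.minFac_le_of_dvd (Nat.minFac_prime hm1).two_le
        ((Nat.minFac_dvd (Subgroup.center G).index).trans hmn)
    have hk2 : 2 ≤ k := by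
      rcases k with _ | _ | k
      · simp at hk; exact absurd hk hm0
      · exfalso; apply hmnp; rw [hk]; simpa using Nat.minFac_prime hm1
      · omega
    calc 2 * (Nat.card G).minFac * Nat.card (Subgroup.center G)
        ≤ k * (Subgroup.center G).index.minFac * Nat.card (Subgroup.center G) := by gcongr
      _ = (Subgroup.center G).index * Nat.card (Subgroup.center G) := by rw [mul_comm k, ← hk]
      _ = Nat.card G := hmz
  set w : G → ℕ := fun g => 1 + (if g ∈ M then 1 else 0) +
    (if g ∈ Subgroup.center G then 1 else 0) * (2 * (Nat.card G).minFac - 2) with hw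
  have htot : ∑ g : G, w g = Nat.card G + Nat.card M +
      Nat.card (Subgroup.center G) * (2 * (Nat.card G).minFac - 2) := by
    simp only [hw, Finset.sum_add_distrib, ← Finset.sum_mul, Finset.sum_boole]
    congr 1
    · congr 1
      · simp [Nat.card_eq_fintype_card]
      · rw [Nat.card_eq_fintype_card, Fintype.card_subtype]; simp
    · congr 1
      rw [Nat.card_eq_fintype_card, Fintype.card_subtype]; simp
  have hw1 : ∀ g, 1 ≤ w g := fun g => by simp only [hw]; omega
  have horb : ∀ q : MulAction.orbitRel.Quotient (MulAut G) G,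
      2 * (Nat.card G).minFac ≤ ∑ g ∈ Finset.univ.filter (fun g : G =>
        (Quotient.mk'' g : MulAction.orbitRel.Quotient (MulAut G) G) = q), w g := by
    intro q
    obtain ⟨g0, rfl⟩ := Quotient.exists_rep q
    set F := Finset.univ.filter (fun g : G =>
        (Quotient.mk'' g : MulAction.orbitRel.Quotient (MulAut G) G) = Quotient.mk _ g0) with hF
    have hmemF : ∀ g : G, g ∈ F ↔ g ∈ MulAction.orbit (MulAut G) g0 := by
      intro g
      simp only [hF, Finset.mem_filter, Finset.mem_univ, true_and]
      rw [← MulAction.orbitRel_apply]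
      exact Quotient.eq''
    have hg0F : g0 ∈ F := (hmemF g0).mpr (MulAction.mem_orbit_self g0)
    have hconjF : ∀ g ∈ F, ∀ x : G, x * g * x⁻¹ ∈ F := by
      intro g hg x
      rw [hmemF] at hg ⊢
      obtain ⟨τ, rfl⟩ := hg
      exact ⟨MulAut.conj x * τ, by simp [mul_smul, MulAut.smul_def]⟩
    have hσF : ∀ g ∈ F, σ g ∈ F := by
      intro g hg
      rw [hmemF] at hg ⊢
      obtain ⟨τ, rfl⟩ := hg
      exact ⟨σ * τ, by simp [mul_smul, MulAut.smul_def]⟩
    by_cases hA : ∃ g ∈ F, g ∉ M
    · obtain ⟨g, hgF, hgM⟩ := hA
      have hgZ : g ∉ Subgroup.center G := fun h => hgM (hZM h)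
      have hσgZ : σ g ∉ Subgroup.center G := by
        intro h
        apply hgZ
        rw [Subgroup.mem_center_iff] at h ⊢
        intro y
        apply σ.injective
        rw [map_mul, map_mul]
        exact h (σ y)
      set C1 := Finset.univ.filter (fun h : G => ∃ x : G, x * g * x⁻¹ = h) with hC1
      set C2 := Finset.univ.filter (fun h : G => ∃ x : G, x * σ g * x⁻¹ = h) with hC2
      have hC1F : C1 ⊆ F := by
        intro h hh
        simp only [hC1, Finset.mem_filter, Finset.mem_univ, true_and] at hh
        obtain ⟨x, rfl⟩ := hh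
        exact hconjF g hgF x
      have hC2F : C2 ⊆ F := by
        intro h hh
        simp only [hC2, Finset.mem_filter, Finset.mem_univ, true_and] at hh
        obtain ⟨x, rfl⟩ := hh
        exact hconjF (σ g) (hσF g hgF) x
      have hdisj : Disjoint C1 C2 := by
        rw [Finset.disjoint_left]
        intro h h1 h2
        simp only [hC1, hC2, Finset.mem_filter, Finset.mem_univ, true_and] at h1 h2
        obtain ⟨x, rfl⟩ := h1
        obtain ⟨y, hy⟩ := h2
        apply hσ g hgM
        rw [isConj_iff]
        refine ⟨y⁻¹ * x, ?_⟩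
        have hsg : σ g = y⁻¹ * (x * g * x⁻¹) * y := by rw [← hy]; group
        rw [hsg]; group
      have hc1 := lmc_class_card_ge g hgZ C1 (fun h => by simp [hC1])
      have hc2 := lmc_class_card_ge (σ g) hσgZ C2 (fun h => by simp [hC2])
      calc 2 * (Nat.card G).minFac ≤ C1.card + C2.card := by omega
        _ = (C1 ∪ C2).card := (Finset.card_union_of_disjoint hdisj).symm
        _ ≤ F.card := Finset.card_le_card (Finset.union_subset hC1F hC2F)
        _ = ∑ g ∈ F, 1 := by simp
        _ ≤ ∑ g ∈ F, w g := Finset.sum_le_sum (fun g _ => hw1 g)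
    · simp only [not_exists, not_and, not_not] at hA
      by_cases hg0Z : g0 ∈ Subgroup.center G
      · have hwg0 : 2 * (Nat.card G).minFac ≤ w g0 := by
          simp only [hw]
          rw [if_pos hg0Z, if_pos (hZM hg0Z)]
          have := hpp.two_le
          omega
        exact hwg0.trans (Finset.single_le_sum (fun g _ => Nat.zero_le _) hg0F)
      · set C1 := Finset.univ.filter (fun h : G => ∃ x : G, x * g0 * x⁻¹ = h) with hC1
        have hC1F : C1 ⊆ F := by
          intro h hh
          simp only [hC1, Finset.mem_filter, Finset.mem_univ, true_and] at hh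
          obtain ⟨x, rfl⟩ := hh
          exact hconjF g0 hg0F x
        have hc1 := lmc_class_card_ge g0 hg0Z C1 (fun h => by simp [hC1])
        have hw2 : ∀ h ∈ C1, 2 ≤ w h := by
          intro h hh
          have hhM := hA h (hC1F hh)
          simp only [hw]
          rw [if_pos hhM]
          omega
        calc 2 * (Nat.card G).minFac ≤ C1.card * 2 := by omega
          _ = ∑ h ∈ C1, 2 := by simp
          _ ≤ ∑ h ∈ C1, w h := Finset.sum_le_sum hw2
          _ ≤ ∑ g ∈ F, w g := Finset.sum_le_sum_of_subset hC1F
  haveI : Fintype (MulAction.orbitRel.Quotient (MulAut G) G) := Fintype.ofFinite _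
  have hsum : ∑ q : MulAction.orbitRel.Quotient (MulAut G) G,
      ∑ g ∈ Finset.univ.filter (fun g : G =>
        (Quotient.mk'' g : MulAction.orbitRel.Quotient (MulAut G) G) = q), w g = ∑ g : G, w g :=
    Finset.sum_fiberwise _ _ _
  have hcnt : Nat.card (MulAction.orbitRel.Quotient (MulAut G) G) * (2 * (Nat.card G).minFac)
      ≤ ∑ g : G, w g := by
    rw [← hsum, Nat.card_eq_fintype_card, ← Finset.card_univ, ← smul_eq_mul, ← Finset.sum_const]
    exact Finset.sum_le_sum (fun q _ => horb q)
  rw [htot] at hcnt
  rw [Nat.le_div_iff_mul_le hpp.pos]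
  exact lmc_arith _ _ _ _ _ hpp.one_le hcnt hMc hz

end Cfsg.Agent.Helper98.LM
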