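import Mathlib
import Cfsg.Prelude.Def_GeometricClasses
import Cfsg.Prelude.Def_Classical
import Cfsg.Agent.Helper35.S88Defs
import Cfsg.Agent.Helper98.ELPMain

set_option autoImplicit false

/-!
# CALL S88 (row S5988), stage P (`r = p`, ALL `p` including `2`) - helper98

`s88_p`: verbatim the stage statement of `tools/calls/S88Skel.lean.txt`; from
`Cfsg.Agent.Helper98.ELP.elp_main` (the Siegel element; every invariant subspace of even dimension
is of plus type).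
-/

namespace Cfsg.Agent.Helper98.S88

open Module Cfsg Cfsg.Geo Cfsg.Agent.Helper35.S88
open scoped MatrixGroups

variable {F : Type*} [Field F] [Fintype F]

theorem s88_p {p : ℕ} [Fact p.Prime] [CharP F p] (d m : ℕ) (hd : 4 ≤ d) (hm : 2 ≤ m)
    (hme : Even m) (hmd : m < d) :
    ∃ x : GL (Fin d ⊕ Fin d) F, x ∈ Cfsg.Geo.omegaGL (Cfsg.quadFormPlus d F) ∧ x ^ p = 1 ∧
      (∀ z : F, (x : Matrix (Fin d ⊕ Fin d) (Fin d ⊕ Fin d) F) ≠
        z • (1 : Matrix (Fin d ⊕ Fin d) (Fin d ⊕ Fin d) F)) ∧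
      ¬ InvEll (Cfsg.quadFormPlus d F) (x : Matrix (Fin d ⊕ Fin d) (Fin d ⊕ Fin d) F) m := by
  obtain ⟨x, hx, hxp, hns, hall⟩ := Cfsg.Agent.Helper98.ELP.elp_main (F := F) (p := p) d (by omega)
  refine ⟨x, hx, hxp, hns, ?_⟩
  rintro ⟨W, ⟨hfin, -, hnp⟩, hinv⟩
  exact hnp (hall W (hfin ▸ hme) hinv)

end Cfsg.Agent.Helper98.S88
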