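import Mathlib
import Cfsg.Agent.Helper13.TLDefs
import Cfsg.Agent.Helper53.TLUARC
import Cfsg.Agent.Helper20.TLUBADALL
import Cfsg.Agent.Helper51.TLUCDVD
import Cfsg.Agent.Helper41.TLUFIX
import Cfsg.Agent.Helper10.TLUFIXCONGR
import Cfsg.Agent.Helper51.TLUEXND
import Cfsg.Agent.Helper86.TLUNDSUBCARD
import Cfsg.Agent.Helper57.TLUDETNORM
import Cfsg.Agent.Helper57.TLUZNORM

set_option autoImplicit false
set_option linter.unusedVariables false
set_option linter.style.haveILetI false

/-! helper98: piece CASEDB of CALL S5954 (helper13), doubled. -/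

namespace Cfsg.Agent.Helper98.TI5954

open Module Polynomial
open Cfsg.Agent.Helper13.TIu Cfsg.Agent.Helper13.TIsp
open Cfsg.Agent.Helper53.TI5954 (u_arith_c)
open Cfsg.Agent.Helper20.TI5954 (u_bad_all)
open Cfsg.Agent.Helper51.TI5954 (u_cdvd u_exists_nd)
open Cfsg.Agent.Helper41.TI5954 (u_fix)
open Cfsg.Agent.Helper10.TI5954 (u_fix_congr)
open Cfsg.Agent.Helper86.TI5954 (u_nd_sub_card)
open Cfsg.Agent.Helper57.TI5954 (u_det_norm u_z_norm)

section cases

variable {F : Type*} [Field F] [Fintype F] {σ : F →+* F}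

/-- CASEDB -/
theorem u_case_d_back (p : ℕ) [Fact p.Prime] [CharP F p] (q : ℕ) (hq : Fintype.card F = q ^ 2)
    (hσ : ∀ a, σ a = a ^ q) (hσ2 : ∀ a, σ (σ a) = a) (hσne : σ ≠ RingHom.id F) (r : ℕ)
    [Fact r.Prime] (hr2 : 2 < r) (hrp : r ≠ p) (hrq : ¬ r ∣ q + 1) (i c : ℕ)
    (hi : i = orderOf (q : ZMod r))
    (hc : c = if i % 4 = 0 then i else if i % 4 = 2 then i / 2 else 2 * i) (n m : ℕ)
    (hn : 1 ≤ n) (hmn : m ≤ n)
    (hΩ : r ∣ Nat.card {W : Submodule F (Fin n → F) // finrank F W = m ∧ UNd (stdH σ n) W})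
    (hL : UAll σ n m r) : c ≤ m ∧ m % c ≤ n % c := by
  classical
  have hrpr : r.Prime := Fact.out
  have hr0 : 0 < r := hrpr.pos
  obtain ⟨hrF, hrcard⟩ := ti_char_facts (F := F) p r hrp
  have hrq' : ¬ r ∣ q := by
    intro h
    apply hrcard
    rw [hq]
    exact dvd_pow h (by norm_num)
  obtain ⟨hi0, hcpos, -⟩ := u_arith_c q r hr2 hrq' i c hi hc
  have hS := stdH_symm σ hσ2 n
  have hndtop := stdH_nd_top σ n
  have hfin : finrank F (Fin n → F) = n := by
    rw [Module.finrank_fintype_fun_eq_card, Fintype.card_fin]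
  have hklt : n % c < c := Nat.mod_lt _ hcpos
  have hcop : Nat.Coprime r (q + 1) := (Nat.Prime.coprime_iff_not_dvd hrpr).2 hrq
  have hone : ∀ x : F, x ^ r = 1 → x ^ (q + 1) = 1 → x = 1 := by
    intro x h1 h2
    have h3 := pow_gcd_eq_one.2 ⟨h1, h2⟩
    rw [Nat.Coprime.gcd_eq_one hcop] at h3
    simpa using h3
  -- the bad element
  have hbad : c ≤ n → ∃ T : Module.End F (Fin n → F), UPres (stdH σ n) T ∧ T ^ r = 1 ∧ T ≠ 1 ∧
      finrank F (LinearMap.ker (T - 1)) = n % c := by
    intro hcn
    have hu : 1 ≤ n / c := (Nat.one_le_div_iff hcpos).mpr hcn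
    exact u_bad_all q hq hσ hσ2 hσne r hr2 hrq' hrF i c hi hc n (n / c) (n % c)
      (Nat.div_add_mod n c).symm hu
  -- analysis of invariant subspaces
  have hana : ∀ T : Module.End F (Fin n → F), UPres (stdH σ n) T → T ^ r = 1 →
      ∀ W : Submodule F (Fin n → F), finrank F W = m → UNd (stdH σ n) W → W.map T ≤ W →
      c ∣ m - finrank F (W ⊓ LinearMap.ker (T - 1) : Submodule F (Fin n → F)) := by
    intro T hT hTr W hW1 hW2 hW3
    have h3 := u_cdvd (stdH σ n) q hq hσ hσ2 hσne hS T hT r hr2 hrq' hrF hTr i c hi hc W hW3 hW2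
    rwa [hW1] at h3
  -- step 1: counting
  have hcnt : n % c < m := by
    by_contra hge
    push Not at hge
    obtain ⟨K, hK, hKc, hKm, hrK⟩ : ∃ K : Submodule F (Fin n → F),
        UNd (stdH σ n) K ∧ finrank F K < c ∧ m ≤ finrank F K ∧
        r ∣ Nat.card {W : Submodule F (Fin n → F) //
          (finrank F W = m ∧ UNd (stdH σ n) W) ∧ W ≤ K} := by
      by_cases hcn : c ≤ n
      · obtain ⟨T, hT, hTr, -, hT3⟩ := hbad hcn
        have hCnd : UNd (stdH σ n) (LinearMap.ker (T - 1)) := by
          have := (u_fix (stdH σ n) hσ2 hS T hT r hr0 hrF hTr ⊤ le_top hndtop).1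
          rwa [top_inf_eq] at this
        refine ⟨LinearMap.ker (T - 1), hCnd, by rw [hT3]; exact hklt, by rw [hT3]; exact hge, ?_⟩
        have h1 := u_fix_congr n m r T hT hTr
        have h2 := (h1.dvd_iff (dvd_refl r)).mp hΩ
        have h3 : Nat.card {W : Submodule F (Fin n → F) //
            (finrank F W = m ∧ UNd (stdH σ n) W) ∧ W.map T ≤ W} =
            Nat.card {W : Submodule F (Fin n → F) //
            (finrank F W = m ∧ UNd (stdH σ n) W) ∧ W ≤ LinearMap.ker (T - 1)} := by
          apply Nat.card_congr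
          apply Equiv.subtypeEquivRight
          intro W
          constructor
          · rintro ⟨⟨hW1, hW2⟩, hW3⟩
            refine ⟨⟨hW1, hW2⟩, ?_⟩
            have h4 := hana T hT hTr W hW1 hW2 hW3
            have h5 : finrank F (W ⊓ LinearMap.ker (T - 1) : Submodule F (Fin n → F)) ≤
                finrank F W := Submodule.finrank_mono inf_le_left
            have h6 := Nat.eq_zero_of_dvd_of_lt h4 (by omega)
            have h7 : W ⊓ LinearMap.ker (T - 1) = W :=
              Submodule.eq_of_le_of_finrank_eq inf_le_left (by omega)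
            rw [← h7]
            exact inf_le_right
          · rintro ⟨⟨hW1, hW2⟩, hW3⟩
            refine ⟨⟨hW1, hW2⟩, ?_⟩
            rintro _ ⟨w, hw, rfl⟩
            have h8 := hW3 hw
            rw [LinearMap.mem_ker, LinearMap.sub_apply, Module.End.one_apply, sub_eq_zero] at h8
            change T w ∈ W
            rw [h8]
            exact hw
        rw [← h3]
        exact h2
      · push Not at hcn
        refine ⟨⊤, hndtop, by rw [finrank_top, hfin]; exact hcn,
          by rw [finrank_top, hfin]; omega, ?_⟩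
        have h3 : Nat.card {W : Submodule F (Fin n → F) //
            (finrank F W = m ∧ UNd (stdH σ n) W) ∧ W ≤ ⊤} =
            Nat.card {W : Submodule F (Fin n → F) //
            finrank F W = m ∧ UNd (stdH σ n) W} := by
          apply Nat.card_congr
          apply Equiv.subtypeEquivRight
          intro W
          exact and_iff_left le_top
        rw [h3]
        exact hΩ
    obtain ⟨W₀, hW₀1, hW₀2, hW₀3⟩ := u_exists_nd (stdH σ n) hσ2 hσne hS K hK m hKm
    exact u_nd_sub_card q hq hσ hσ2 hσne r hr2 hrq' hrF i c hi hc n m K hK hKc W₀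
      ⟨⟨hW₀3, hW₀2⟩, hW₀1⟩ hrK
  -- step 2
  have hcn : c ≤ n := by
    by_contra hlt
    push Not at hlt
    rw [Nat.mod_eq_of_lt hlt] at hcnt
    omega
  obtain ⟨T, hT, hTr, hT1, hT3⟩ := hbad hcn
  haveI : Nontrivial (Fin n → F) := by
    haveI : Nonempty (Fin n) := ⟨⟨0, by omega⟩⟩
    infer_instance
  have hdet : LinearMap.det T = 1 := by
    apply hone
    · rw [← map_pow, hTr, map_one]
    · have := u_det_norm (σ := σ) n T hT
      rw [hσ, ← pow_succ] at this
      exact this
  have hns : ∀ z : F, T ≠ z • (1 : Module.End F (Fin n → F)) := by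
    intro z hz
    apply hT1
    have hz1 : z = 1 := by
      apply hone
      · have h1 := hTr
        rw [hz, _root_.smul_pow, one_pow] at h1
        obtain ⟨v, hv⟩ := exists_ne (0 : Fin n → F)
        have h2 := congrArg (fun f : Module.End F (Fin n → F) => f v) h1
        simp only [LinearMap.smul_apply, Module.End.one_apply] at h2
        have h3 : (z ^ r) • v = (1 : F) • v := by rw [h2, one_smul]
        exact smul_left_injective F hv h3
      · have := u_z_norm (σ := σ) n hn T hT 1 z (by rw [pow_one]; exact hz)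
        rw [hσ, ← pow_succ] at this
        exact this
    rw [hz, hz1, one_smul]
  obtain ⟨W, hW1, hW2, hW3⟩ := hL T hT hdet ⟨1, by rw [hTr, one_smul]⟩ hns
  have h4 := hana T hT hTr W hW1 hW2 hW3
  have h5 : finrank F (W ⊓ LinearMap.ker (T - 1) : Submodule F (Fin n → F)) ≤
      finrank F W := Submodule.finrank_mono inf_le_left
  have h6 : finrank F (W ⊓ LinearMap.ker (T - 1) : Submodule F (Fin n → F)) ≤
      finrank F (LinearMap.ker (T - 1)) := Submodule.finrank_mono inf_le_right
  rw [hW1] at h5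
  rw [hT3] at h6
  obtain ⟨j, hj⟩ := h4
  have h7 : m = finrank F (W ⊓ LinearMap.ker (T - 1) : Submodule F (Fin n → F)) +
      c * j := by omega
  have h8 : m % c = finrank F (W ⊓ LinearMap.ker (T - 1) :
      Submodule F (Fin n → F)) := by
    conv_lhs => rw [h7]
    rw [Nat.add_mul_mod_self_left]
    exact Nat.mod_eq_of_lt (by omega)
  refine ⟨?_, by rw [h8]; exact h6⟩
  by_contra hlt
  push Not at hlt
  have hj0 : j = 0 := by
    by_contra hj0
    have h9 : c * 1 ≤ c * j := Nat.mul_le_mul_left c (by omega)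
    omega
  subst hj0
  omega

end cases

end Cfsg.Agent.Helper98.TI5954
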