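import Mathlib
import Cfsg.Agent.Helper90.BGChain
import Cfsg.Agent.Helper46.BGLIRR

set_option autoImplicit false

/-!
# Sub-CALL TSEG pieces DVD and CHAIN (helper98, doubles)
-/

namespace Cfsg.Agent.Helper98.TSEG

open Module Polynomial Cfsg.Agent.Helper90.BG

section lin

variable {F : Type*} [Field F] {V : Type*} [AddCommGroup V] [Module F V] [FiniteDimensional F V]

/-- DVD -/
theorem eg_dvd [Fintype F] (T : Module.End F V) (r : ℕ) [Fact r.Prime] (hrF : (r : F) ≠ 0)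
    (hTr : T ^ r = 1) (W : Submodule F V) (hW : W.map T ≤ W)
    (hWk : W ⊓ LinearMap.ker (T - 1) = ⊥) :
    orderOf ((Fintype.card F : ℕ) : ZMod r) ∣ finrank F W := by
  classical
  have hd : ∀ g : F[X], Irreducible g → g ∣ ∑ j ∈ Finset.range r, (X : F[X]) ^ j →
      g.natDegree = orderOf ((Fintype.card F : ℕ) : ZMod r) := fun g hg hdvd =>
    Cfsg.Agent.Helper46.bgl_irr_factor_degree r hrF g hg hdvd
  have hdvd := cyc_dvd T r _ hrF hTr hd W hW
  rw [hWk, finrank_bot, Nat.sub_zero] at hdvd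
  exact hdvd

/-- CHAIN -/
theorem eg_chain [Fintype F] (T : Module.End F V) (r : ℕ) [Fact r.Prime] (hrF : (r : F) ≠ 0)
    (hTr : T ^ r = 1) (W : Submodule F V) (hW : W.map T ≤ W)
    (hWk : W ⊓ LinearMap.ker (T - 1) = ⊥) (s : ℕ)
    (hs : orderOf ((Fintype.card F : ℕ) : ZMod r) * s ≤ finrank F W) :
    ∃ W' : Submodule F V, W' ≤ W ∧ W'.map T ≤ W' ∧
      finrank F W' = orderOf ((Fintype.card F : ℕ) : ZMod r) * s := by
  classical
  have hd : ∀ g : F[X], Irreducible g → g ∣ ∑ j ∈ Finset.range r, (X : F[X]) ^ j →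
      g.natDegree = orderOf ((Fintype.card F : ℕ) : ZMod r) := fun g hg hdvd =>
    Cfsg.Agent.Helper46.bgl_irr_factor_degree r hrF g hg hdvd
  have hPhi : (∑ j ∈ Finset.range r, (X : F[X]) ^ j) ≠ 0 := phi_ne_zero r hrF
  have hkill : ∀ v ∈ W,
      aeval T (∑ j ∈ Finset.range r, (X : F[X]) ^ j) v ∈ (⊥ : Submodule F V) := by
    intro v hv
    have h1 : aeval T (∑ j ∈ Finset.range r, (X : F[X]) ^ j) v ∈ W := aeval_mem T W hW _ hv
    have h2 : aeval T (∑ j ∈ Finset.range r, (X : F[X]) ^ j) v ∈ LinearMap.ker (T - 1) := by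
      rw [LinearMap.mem_ker, ← Module.End.mul_apply, sub_one_mul_aeval_phi T r hTr,
        LinearMap.zero_apply]
    rw [← hWk]
    exact ⟨h1, h2⟩
  have hbot : (⊥ : Submodule F V).map T ≤ ⊥ := by
    rw [Submodule.map_bot]
  obtain ⟨U', -, h2, h3, h4⟩ := chain_exists T ⊥ W bot_le hbot hW
    (∑ j ∈ Finset.range r, (X : F[X]) ^ j) hPhi hkill _ hd s (by
      rw [finrank_bot, zero_add]
      exact hs)
  refine ⟨U', h2, h3, ?_⟩
  rw [h4, finrank_bot, zero_add]

end lin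

end Cfsg.Agent.Helper98.TSEG
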